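import Groth.Agent.LimTop61.LocFreeStage
import Groth.Agent.LimTop61.FPDescend
import Groth.Agent.LimTop61.HomDescent
import Groth.Agent.Mero90.Triv
import Groth.Prelude.Def_RelProj

/-! Invertible modules on a limit of schemes. -/

set_option autoImplicit false
universe u

open CategoryTheory CategoryTheory.Limits AlgebraicGeometry

namespace Groth.Agent.PicLim95

open LimTop61

theorem rank_one_of_isInvertible {X : Scheme.{u}} {L : X.Modules} (hL : PicF.IsInvertible L) :
    FlatMod.IsFinLocFreeOfRank 1 L := fun x => by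
  obtain ⟨U, hx, ⟨φ⟩⟩ := hL x
  exact ⟨U, hx, ⟨φ ≪≫ (coproductUniqueIso fun _ : Fin 1 => Coh.structureModule (↑U : Scheme.{u})).symm⟩⟩

theorem isInvertible_of_rank_one {X : Scheme.{u}} {L : X.Modules}
    (h : FlatMod.IsFinLocFreeOfRank 1 L) : PicF.IsInvertible L := fun x => by
  obtain ⟨U, hx, ⟨φ⟩⟩ := h x
  exact ⟨U, hx, ⟨φ ≪≫ coproductUniqueIso fun _ : Fin 1 => Coh.structureModule (↑U : Scheme.{u})⟩⟩

theorem isFP_of_isInvertible {X : Scheme.{u}} {L : X.Modules} (hL : PicF.IsInvertible L) : CohB1.IsFP L :=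
  Props58.LocFree.isFP_of_isFinLocFree (fun x => by
    obtain ⟨U, hx, e⟩ := rank_one_of_isInvertible hL x
    exact ⟨U, 1, hx, e⟩)

variable {I : Type u} [SmallCategory I] [IsCofiltered I] {D : I ⥤ Scheme.{u}} {c : Cone D}
  (hc : IsLimit c) [∀ {i j : I} (f : i ⟶ j), IsAffineHom (D.map f)]
  [∀ i, CompactSpace (D.obj i)] [∀ i, QuasiSeparatedSpace (D.obj i)]

include hc in
/-- An invertible module on the limit comes from a stage. -/
theorem exists_invertible_stage (L : c.pt.Modules) (hL : PicF.IsInvertible L) :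
    ∃ (i : I) (M : (D.obj i).Modules), PicF.IsInvertible M ∧
      Nonempty ((Scheme.Modules.pullback (c.π.app i)).obj M ≅ L) := by
  obtain ⟨i₀⟩ := IsCofiltered.nonempty (C := I)
  haveI : L.IsQuasicoherent := Mero90.isQCoh_of_isInvertible hL
  haveI := isFP_of_isInvertible hL
  obtain ⟨i, -, M, hq, hfp, ⟨e⟩⟩ := exists_fp_descend hc (i₀ := i₀) L
  haveI : M.IsQuasicoherent := hq
  haveI := hfp
  obtain ⟨j, φ, hj⟩ := (isFinLocFreeOfRank_iff_eventually hc 1 M).1
    (isFinLocFreeOfRank_of_iso e.symm (rank_one_of_isInvertible hL))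
  exact ⟨j, _, isInvertible_of_rank_one hj,
    ⟨(Scheme.Modules.pullbackComp (c.π.app j) (D.map φ)).app M ≪≫
      (Scheme.Modules.pullbackCongr (c.w φ)).app M ≪≫ e⟩⟩

include hc in
/-- Invertible modules isomorphic on the limit are isomorphic at a stage. -/
theorem exists_iso_stage {i : I} (L M : (D.obj i).Modules) (hL : PicF.IsInvertible L)
    (hM : PicF.IsInvertible M)
    (e : (Scheme.Modules.pullback (c.π.app i)).obj L ≅ (Scheme.Modules.pullback (c.π.app i)).obj M) :
    ∃ (j : I) (φ : j ⟶ i), Nonempty ((Scheme.Modules.pullback (D.map φ)).obj L ≅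
      (Scheme.Modules.pullback (D.map φ)).obj M) := by
  haveI : L.IsQuasicoherent := Mero90.isQCoh_of_isInvertible hL
  haveI : M.IsQuasicoherent := Mero90.isQCoh_of_isInvertible hM
  haveI := isFP_of_isInvertible hL
  haveI := isFP_of_isInvertible hM
  exact (nonempty_iso_iff_eventually hc L M).1 ⟨e⟩

end Groth.Agent.PicLim95
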